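import Mathlib
import Cfsg.Agent.TcData.JU1.I1.Chk0

set_option autoImplicit false
set_option Elab.async false
set_option maxRecDepth 100000
set_option linter.all false

namespace Cfsg.Agent.TcData.JU1.I1

open Cfsg.Spor Cfsg.Agent.Lib.TcFacts Cfsg.Agent.Lib.TcBits Cfsg.Agent.Lib.TcPres Cfsg.Agent.Lib.JUPres Cfsg.Agent.Lib.JUPres.P1 Cfsg.Agent.TcData.JU1

theorem c0 : Block F al 0 256 1 := b0

theorem c1 : Block F al 0 512 1 :=
  block_comb c0 b1 (Nat.zero_le _) (Nat.le_of_ble_eq_true rfl) rfl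

end Cfsg.Agent.TcData.JU1.I1
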